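import Groth.Agent.SemistableNode.Node

/-!
# Functions on a neighbourhood of the node which are étale on the generic fibre
-/

set_option autoImplicit false
set_option linter.style.haveILetI false
set_option linter.unusedSectionVars false

universe u

open IsLocalRing

namespace Groth.Agent.SemistableNode

variable {V : Type u} [CommRing V] [IsDomain V] [IsDiscreteValuationRing V] {ϖ : V}
  (hϖ : Irreducible ϖ) {h : Node ϖ} (hh : h ∉ Ideal.span {coord ϖ 0, coord ϖ 1})

/-- The coordinates on the neighbourhood. -/
noncomputable abbrev crd (h : Node ϖ) (i : Fin 2) : Localization.Away h :=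
  algebraMap (Node ϖ) (Localization.Away h) (coord ϖ i)

theorem crd_mul : crd h 0 * crd h 1 = algebraMap V (Localization.Away h) ϖ := by
  rw [← map_mul, coord_mul, ← IsScalarTower.algebraMap_apply]

include hϖ hh

theorem comp_ne (j : Fin 2) : comp hϖ j h ≠ 0 := fun e =>
  coeff_zero_comp_ne hϖ j hh (by rw [e, Polynomial.coeff_zero])

/-- The component, into its field of rational functions. -/
noncomputable def psi (j : Fin 2) :
    Localization.Away h →+* FractionRing (Polynomial (ResidueField V)) :=
  IsLocalization.Away.lift h (g := (algebraMap _ _).comp (comp hϖ j))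
    (isUnit_iff_ne_zero.mpr ((map_ne_zero_iff _ (IsFractionRing.injective _ _)).mpr (comp_ne hϖ hh j)))

theorem psi_algebraMap (j : Fin 2) (q : Node ϖ) :
    psi hϖ hh j (algebraMap _ (Localization.Away h) q) = algebraMap _ _ (comp hϖ j q) :=
  IsLocalization.Away.lift_eq h _ q

/-- The value at the node. -/
noncomputable def origin (h : Node ϖ) (hh : h ∉ Ideal.span {coord ϖ 0, coord ϖ 1}) :
    Localization.Away h →+* ResidueField V :=
  IsLocalization.Away.lift h (g := (Polynomial.evalRingHom 0).comp (comp hϖ 0)) (isUnit_iff_ne_zero.mpr (by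
    rw [RingHom.comp_apply, Polynomial.coe_evalRingHom, ← Polynomial.coeff_zero_eq_eval_zero]
    exact coeff_zero_comp_ne hϖ 0 hh))

theorem origin_algebraMap (q : Node ϖ) :
    origin hϖ h hh (algebraMap _ (Localization.Away h) q) = (comp hϖ 0 q).eval 0 :=
  IsLocalization.Away.lift_eq h _ q

theorem exists_num (b : Localization.Away h) :
    ∃ (q : Node ϖ) (m : ℕ), algebraMap _ (Localization.Away h) q = b * algebraMap _ _ (h ^ m) := by
  obtain ⟨m, q, hq⟩ := IsLocalization.Away.surj h b
  exact ⟨q, m, by rw [← hq, map_pow]⟩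

theorem crd_dvd {i j : Fin 2} (hij : i ≠ j) {b : Localization.Away h} (hb : psi hϖ hh j b = 0) :
    crd h i ∣ b := by
  obtain ⟨q, m, hq⟩ := exists_num hϖ hh b
  have h0 : comp hϖ j q = 0 := IsFractionRing.injective _ (FractionRing (Polynomial (ResidueField V))) (by
    rw [← psi_algebraMap hϖ hh, hq, map_mul, hb, zero_mul, map_zero])
  have hu : IsUnit (algebraMap (Node ϖ) (Localization.Away h) (h ^ m)) := by
    rw [map_pow]; exact (IsLocalization.Away.algebraMap_isUnit h).pow m
  rw [← hu.dvd_mul_right, ← hq]
  exact map_dvd _ (coord_dvd_of_comp hϖ hij h0)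

theorem psi_crd (j l : Fin 2) : psi hϖ hh j (crd h l) =
    if l = j then algebraMap (Polynomial (ResidueField V)) _ Polynomial.X else 0 := by
  rw [psi_algebraMap, comp_coord]
  split_ifs <;> simp

theorem crd_prime {i j : Fin 2} (hij : i ≠ j) {a b : Localization.Away h} (hd : crd h i ∣ a * b) :
    crd h i ∣ a ∨ crd h i ∣ b := by
  obtain ⟨c, hc⟩ := hd
  have h0 := congrArg (psi hϖ hh j) hc
  rw [map_mul, map_mul, psi_crd, if_neg hij, zero_mul, mul_eq_zero] at h0
  exact h0.imp (crd_dvd hϖ hh hij) (crd_dvd hϖ hh hij)

theorem not_crd_dvd {i j : Fin 2} (hij : i ≠ j) : ¬ crd h i ∣ crd h j := by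
  rintro ⟨c, hc⟩
  have h0 := congrArg (psi hϖ hh j) hc
  rw [map_mul, psi_crd, psi_crd, if_pos rfl, if_neg hij, zero_mul] at h0
  exact Polynomial.X_ne_zero ((map_eq_zero_iff _ (IsFractionRing.injective _ _)).mp h0)

theorem pi_regular_away {b : Localization.Away h} (hb : algebraMap V (Localization.Away h) ϖ * b = 0) :
    b = 0 := by
  obtain ⟨q, m, hq⟩ := exists_num hϖ hh b
  have h0 : algebraMap (Node ϖ) (Localization.Away h) (algebraMap V (Node ϖ) ϖ * q) = 0 := by
    rw [map_mul, ← IsScalarTower.algebraMap_apply, hq, ← mul_assoc, hb, zero_mul]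
  obtain ⟨⟨_, l, rfl⟩, hl⟩ := (IsLocalization.map_eq_zero_iff (Submonoid.powers h) _ _).mp h0
  have hl' : h ^ l * q = 0 := pi_regular hϖ (by simpa [mul_left_comm] using hl)
  have : algebraMap (Node ϖ) (Localization.Away h) q = 0 :=
    (IsLocalization.map_eq_zero_iff (Submonoid.powers h) _ _).mpr ⟨⟨_, l, rfl⟩, hl'⟩
  rw [hq, map_pow] at this
  exact ((IsLocalization.Away.algebraMap_isUnit h).pow m).mul_left_eq_zero.mp this

theorem crd_regular (i : Fin 2) {b : Localization.Away h} (hb : crd h i * b = 0) : b = 0 := by
  refine pi_regular_away hϖ hh ?_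
  rw [← crd_mul]
  fin_cases i
  · rw [mul_right_comm]; simp_all
  · rw [mul_assoc]; simp_all

theorem dvd_or_dvd_of_mul_eq (g : Localization.Away h) :
    ∀ (n m : ℕ) (g' : Localization.Away h), g * g' = crd h 0 ^ n * crd h 1 ^ m →
      ¬ crd h 0 ∣ g → ¬ crd h 1 ∣ g → IsUnit g := by
  intro n
  induction n with
  | zero =>
    intro m
    induction m with
    | zero =>
      intro g' he _ _
      rw [pow_zero, pow_zero, one_mul] at he
      exact IsUnit.of_mul_eq_one g' he
    | succ m ih =>
      intro g' he h0 h1
      rcases crd_prime hϖ hh (show (1 : Fin 2) ≠ 0 by decide)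
        (a := g) (b := g') ⟨crd h 1 ^ m, by rw [he, pow_succ]; ring⟩ with hd | ⟨c, rfl⟩
      · exact absurd hd h1
      · refine ih c ?_ h0 h1
        refine sub_eq_zero.mp (crd_regular hϖ hh 1 ?_)
        rw [pow_succ] at he
        linear_combination he
  | succ n ih =>
    intro m g' he h0 h1
    rcases crd_prime hϖ hh (show (0 : Fin 2) ≠ 1 by decide)
      (a := g) (b := g') ⟨crd h 0 ^ n * crd h 1 ^ m, by rw [he, pow_succ]; ring⟩ with hd | ⟨c, rfl⟩
    · exact absurd hd h0
    · refine ih m c ?_ h0 h1
      refine sub_eq_zero.mp (crd_regular hϖ hh 0 ?_)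
      rw [pow_succ] at he
      linear_combination he

omit hϖ hh in
theorem span_D_coord :
    ∀ b : Localization.Away h, ∃ a c : Localization.Away h, KaehlerDifferential.D V (Localization.Away h) b =
      a • KaehlerDifferential.D V _ (crd h 0) + c • KaehlerDifferential.D V _ (crd h 1) := by
  intro b
  let D := KaehlerDifferential.D V (Localization.Away h)
  let N : Submodule (Localization.Away h) (Ω[Localization.Away h⁄V]) :=
    Submodule.span (Localization.Away h) {D (crd h 0), D (crd h 1)}
  have hQ : ∀ q : Node ϖ, D (algebraMap _ _ q) ∈ N := by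
    intro q
    obtain ⟨Q, rfl⟩ := Ideal.Quotient.mk_surjective q
    induction Q using MvPolynomial.induction_on with
    | C a =>
      have ha : algebraMap (Node ϖ) (Localization.Away h) (Ideal.Quotient.mk _ (MvPolynomial.C a)) =
          algebraMap V _ a := by
        rw [IsScalarTower.algebraMap_apply V (Node ϖ) (Localization.Away h)]
        rfl
      rw [ha, Derivation.map_algebraMap]; exact N.zero_mem
    | add p q hp hq => simp only [map_add]; exact N.add_mem hp hq
    | mul_X p l hp =>
      rw [map_mul, map_mul, Derivation.leibniz]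
      refine N.add_mem (N.smul_mem _ ?_) (N.smul_mem _ hp)
      fin_cases l <;> exact Submodule.subset_span (by simp [D, crd])
  obtain ⟨m, q, hq⟩ := IsLocalization.Away.surj h b
  rw [← map_pow] at hq
  obtain ⟨U, hU⟩ : IsUnit (algebraMap (Node ϖ) (Localization.Away h) (h ^ m)) := by
    rw [map_pow]; exact (IsLocalization.Away.algebraMap_isUnit h).pow m
  have h2 : D b ∈ N := by
    have h3 := congrArg D hq
    rw [Derivation.leibniz] at h3
    have h4 : (U : Localization.Away h) • D b ∈ N := by
      rw [hU, show algebraMap (Node ϖ) (Localization.Away h) (h ^ m) • D b =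
          D (algebraMap _ _ q) - b • D (algebraMap _ _ (h ^ m)) by rw [← h3]; abel]
      exact N.sub_mem (hQ q) (N.smul_mem _ (hQ _))
    simpa [smul_smul] using N.smul_mem ((U⁻¹ : (Localization.Away h)ˣ) : Localization.Away h) h4
  obtain ⟨a, c, hac⟩ := Submodule.mem_span_pair.mp h2
  exact ⟨a, c, hac.symm⟩

/-- If the Euler derivative vanishes on a component, the function is constant there in characteristic zero. -/
theorem psi_const [CharZero (ResidueField V)] {i j : Fin 2} (hij : i ≠ j) (δ₀ : Derivation V (Node ϖ) (Node ϖ))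
    (h₀ : δ₀ (coord ϖ 0) = coord ϖ 0) (h₁ : δ₀ (coord ϖ 1) = -coord ϖ 1)
    (δ : Derivation V (Localization.Away h) (Localization.Away h))
    (hδ : ∀ q, δ (algebraMap _ _ q) = algebraMap _ _ (δ₀ q)) (f : Localization.Away h)
    (hg : crd h i ∣ δ f) :
    ∃ c : ResidueField V, psi hϖ hh j f = algebraMap (Polynomial (ResidueField V)) _ (Polynomial.C c) := by
  obtain ⟨q, m, hq⟩ := exists_num hϖ hh f
  have hg0 : psi hϖ hh j (δ f) = 0 := by
    obtain ⟨c, hc⟩ := hg
    rw [hc, map_mul, psi_crd, if_neg hij, zero_mul]
  have e1 := congrArg (psi hϖ hh j) hq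
  have e2 := congrArg (psi hϖ hh j) (congrArg δ hq)
  rw [map_mul, psi_algebraMap, psi_algebraMap] at e1
  rw [Derivation.leibniz, map_add, smul_eq_mul, smul_eq_mul, map_mul, map_mul, hδ, hδ, hg0, mul_zero, add_zero,
    psi_algebraMap, psi_algebraMap, comp_euler hϖ δ₀ h₀ h₁, comp_euler hϖ δ₀ h₀ h₁, map_mul, map_mul] at e2
  have hne : algebraMap (Polynomial (ResidueField V)) (FractionRing (Polynomial (ResidueField V)))
      (Polynomial.C (if j = 0 then 1 else -1) * Polynomial.X) ≠ 0 := by
    rw [map_ne_zero_iff _ (IsFractionRing.injective _ _)]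
    refine mul_ne_zero ?_ Polynomial.X_ne_zero
    split_ifs <;> simp
  have e3 : algebraMap (Polynomial (ResidueField V)) (FractionRing (Polynomial (ResidueField V)))
        (Polynomial.derivative (comp hϖ j q)) = psi hϖ hh j f *
      algebraMap (Polynomial (ResidueField V)) (FractionRing (Polynomial (ResidueField V)))
        (Polynomial.derivative (comp hϖ j (h ^ m))) := by
    refine mul_left_cancel₀ hne ?_
    simp only [map_mul] at e2 ⊢
    linear_combination e2
  have hW : Polynomial.derivative (comp hϖ j q) * comp hϖ j (h ^ m) =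
      comp hϖ j q * Polynomial.derivative (comp hϖ j (h ^ m)) := by
    refine IsFractionRing.injective _ (FractionRing (Polynomial (ResidueField V))) ?_
    rw [map_mul, map_mul, e3, e1]
    ring
  have hne' : comp hϖ j (h ^ m) ≠ 0 := by rw [map_pow]; exact pow_ne_zero _ (comp_ne hϖ hh j)
  obtain ⟨c, hc⟩ := eq_C_mul_of_derivative hne' hW
  refine ⟨c, mul_right_cancel₀ ((map_ne_zero_iff _ (IsFractionRing.injective _ _)).mpr hne') ?_⟩
  rw [← e1, hc, map_mul]

/-- A function constant on a component is not quasi-finite. -/
theorem not_quasiFinite (j : Fin 2) (f : Localization.Away h) (c : ResidueField V)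
    (hf : psi hϖ hh j f = algebraMap (Polynomial (ResidueField V)) _ (Polynomial.C c)) :
    ¬ (Polynomial.aeval f : Polynomial V →ₐ[V] Localization.Away h).toRingHom.QuasiFinite := by
  intro hqf
  let ψr := (psi hϖ hh j).rangeRestrict
  have hV : ∀ v : V, psi hϖ hh j (algebraMap V _ v) =
      algebraMap (Polynomial (ResidueField V)) _ (Polynomial.C (residue V v)) := fun v => by
    rw [IsScalarTower.algebraMap_apply V (Node ϖ) (Localization.Away h), psi_algebraMap, comp_algebraMap]
  let ε : ResidueField V →+* (psi hϖ hh j).range :=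
    Ideal.Quotient.lift (maximalIdeal V) (ψr.comp (algebraMap V (Localization.Away h))) fun v hv =>
      Subtype.ext (by
        show psi hϖ hh j (algebraMap V _ v) = 0
        rw [hV, (residue_eq_zero_iff v).mpr hv, map_zero, map_zero])
  have hε : ∀ r, ((ε r : _) : FractionRing (Polynomial (ResidueField V))) = algebraMap _ _ (Polynomial.C r) := by
    intro r
    obtain ⟨v, rfl⟩ := residue_surjective r
    exact hV v
  have hcomp : ψr.comp (Polynomial.aeval f : Polynomial V →ₐ[V] Localization.Away h).toRingHom =
      ε.comp (Polynomial.eval₂RingHom (residue V) c) := by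
    refine Polynomial.ringHom_ext (fun v => Subtype.ext ?_) (Subtype.ext ?_)
    · simp [ψr, hε, hV]
    · simp [ψr, hε, hf]
  have hε' : ε.QuasiFinite := by
    refine RingHom.QuasiFinite.of_comp (g := Polynomial.eval₂RingHom (residue V) c) ?_
    rw [← hcomp]
    exact (RingHom.QuasiFinite.of_finite (RingHom.Finite.of_surjective _ (psi hϖ hh j).rangeRestrict_surjective)).comp hqf
  algebraize [ε]
  haveI : Module.Finite (ResidueField V) (psi hϖ hh j).range := Module.Finite.of_quasiFinite
  obtain ⟨P, hPm, hP⟩ := Algebra.IsIntegral.isIntegral (R := ResidueField V) (ψr (crd h j))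
  have h1 := congrArg (psi hϖ hh j).range.subtype hP
  rw [Polynomial.hom_eval₂, map_zero] at h1
  have h2 : (psi hϖ hh j).range.subtype.comp (algebraMap (ResidueField V) (psi hϖ hh j).range) =
      (algebraMap (Polynomial (ResidueField V)) (FractionRing (Polynomial (ResidueField V)))).comp Polynomial.C :=
    RingHom.ext hε
  have h3 : (psi hϖ hh j).range.subtype (ψr (crd h j)) =
      algebraMap (Polynomial (ResidueField V)) (FractionRing (Polynomial (ResidueField V))) Polynomial.X := by
    show psi hϖ hh j (crd h j) = _
    rw [psi_crd, if_pos rfl]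
  rw [h2, h3, ← Polynomial.hom_eval₂, Polynomial.eval₂_C_X] at h1
  exact hPm.ne_zero ((map_eq_zero_iff _ (IsFractionRing.injective _ _)).mp h1)

omit hϖ hh in
theorem euler_dvd_of_etale {T : Type u} [CommRing T] [Algebra V T] (δ : Derivation V T T) (f x : T)
    (hf : (Polynomial.aeval f : Polynomial V →ₐ[V] T).toRingHom.Etale) (hx : δ x = x) : δ f ∣ x := by
  algebraize [(Polynomial.aeval f : Polynomial V →ₐ[V] T).toRingHom]
  let J : Ideal T := Ideal.span {δ f}
  let d : Derivation (Polynomial V) T (T ⧸ J) :=
    Derivation.mk'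
      { toFun := fun b => Ideal.Quotient.mk J (δ b)
        map_add' := fun a b => by simp
        map_smul' := fun p b => by
          rw [RingHom.id_apply, Algebra.smul_def]
          show Ideal.Quotient.mk J (δ (Polynomial.aeval f p * b)) =
            Ideal.Quotient.mk J (Polynomial.aeval f p * δ b)
          refine Ideal.Quotient.eq.mpr (Ideal.mem_span_singleton.mpr
            ⟨b * Polynomial.aeval f (Polynomial.derivative p), ?_⟩)
          rw [Derivation.leibniz, Derivation.map_aeval, smul_eq_mul, smul_eq_mul, smul_eq_mul]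
          ring }
      (fun a b => by
        show Ideal.Quotient.mk J (δ (a * b)) = _
        rw [Derivation.leibniz, map_add, smul_eq_mul, smul_eq_mul, map_mul, map_mul]
        rfl)
  have hd : d x = 0 := by
    rw [← Derivation.liftKaehlerDifferential_comp_D d x, Subsingleton.elim (KaehlerDifferential.D _ _ x) 0,
      map_zero]
  rw [← Ideal.mem_span_singleton, ← Ideal.Quotient.eq_zero_iff_mem, ← hx]
  exact hd

omit hh in
/-- The differential vanishes on a component dividing the Euler derivative. -/
theorem D_mk_eq_zero (i j : Fin 2) (hij : i ≠ j) (f a c : Localization.Away h)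
    (hf : KaehlerDifferential.D V (Localization.Away h) f =
      a • KaehlerDifferential.D V _ (crd h i) + c • KaehlerDifferential.D V _ (crd h j))
    (hc : crd h i ∣ c) :
    KaehlerDifferential.D V (Localization.Away h ⧸ Ideal.span ({crd h i} : Set (Localization.Away h)))
      (Ideal.Quotient.mk _ f) = 0 := by
  have h1 := congrArg (KaehlerDifferential.map V V (Localization.Away h)
    (Localization.Away h ⧸ Ideal.span ({crd h i} : Set (Localization.Away h)))) hf
  obtain ⟨c', rfl⟩ := hc
  simp only [map_add, map_smul, KaehlerDifferential.map_D, Ideal.Quotient.algebraMap_eq] at h1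
  rw [Ideal.Quotient.eq_zero_iff_mem.mpr (Ideal.mem_span_singleton_self (crd h i)), map_zero, smul_zero,
    zero_add, mul_smul] at h1
  rw [h1, ← IsScalarTower.algebraMap_smul (Localization.Away h ⧸ Ideal.span ({crd h i} : Set (Localization.Away h)))
    (crd h i), Ideal.Quotient.algebraMap_eq,
    Ideal.Quotient.eq_zero_iff_mem.mpr (Ideal.mem_span_singleton_self (crd h i))]
  exact zero_smul (Localization.Away h ⧸ Ideal.span ({crd h i} : Set (Localization.Away h)))
    (c' • KaehlerDifferential.D V (Localization.Away h ⧸ Ideal.span ({crd h i} : Set (Localization.Away h)))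
      (Ideal.Quotient.mk _ (crd h j)))

omit hh in
/-- The Euler derivative of a function étale on the generic fibre is invertible there. -/
theorem euler_dvd_pi_pow (δ : Derivation V (Localization.Away h) (Localization.Away h))
    (h₀ : δ (crd h 0) = crd h 0) (hh' : ∀ b : Localization.Away h, algebraMap V _ ϖ * b = 0 → b = 0)
    (f : Localization.Away h)
    (hf : ((algebraMap (Localization.Away h) (Localization.Away (algebraMap V (Localization.Away h) ϖ))).comp
      (Polynomial.aeval f : Polynomial V →ₐ[V] Localization.Away h).toRingHom).Etale) :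
    ∃ N : ℕ, δ f ∣ algebraMap V _ ϖ ^ N := by
  obtain ⟨δ', hδ'⟩ := exists_extend_localization
    (T := Localization.Away (algebraMap V (Localization.Away h) ϖ))
    (Submonoid.powers (algebraMap V (Localization.Away h) ϖ)) δ
  have heq : (Polynomial.aeval (algebraMap (Localization.Away h)
        (Localization.Away (algebraMap V (Localization.Away h) ϖ)) f) : Polynomial V →ₐ[V] _).toRingHom =
      (algebraMap (Localization.Away h) (Localization.Away (algebraMap V (Localization.Away h) ϖ))).comp
      (Polynomial.aeval f : Polynomial V →ₐ[V] Localization.Away h).toRingHom :=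
    Polynomial.ringHom_ext (fun v => by simp [← IsScalarTower.algebraMap_apply]) (by simp)
  obtain ⟨c, hc⟩ := euler_dvd_of_etale δ' _ (algebraMap _ _ (crd h 0)) (heq ▸ hf) (by rw [hδ', h₀])
  rw [hδ'] at hc
  obtain ⟨N, c', hc'⟩ := IsLocalization.Away.surj (algebraMap V (Localization.Away h) ϖ) c
  refine ⟨N + 1, c' * crd h 1, ?_⟩
  refine IsLocalization.injective (M := Submonoid.powers (algebraMap V (Localization.Away h) ϖ))
    (Localization.Away (algebraMap V (Localization.Away h) ϖ)) (Submonoid.powers_le.mpr
      (mem_nonZeroDivisors_iff_right.mpr fun b hb => hh' b ((mul_comm _ _).trans hb))) ?_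
  have hp := congrArg (algebraMap (Localization.Away h)
    (Localization.Away (algebraMap V (Localization.Away h) ϖ))) (crd_mul (h := h) (ϖ := ϖ))
  rw [map_mul] at hp
  rw [map_mul, map_mul, map_pow, pow_succ]
  linear_combination (algebraMap (Localization.Away h) (Localization.Away (algebraMap V (Localization.Away h) ϖ))
      (crd h 1)) * (algebraMap (Localization.Away h) (Localization.Away (algebraMap V (Localization.Away h) ϖ))
      (δ f)) * hc' - algebraMap (Localization.Away h) (Localization.Away (algebraMap V (Localization.Away h) ϖ))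
      (algebraMap V (Localization.Away h) ϖ) ^ N * hp + algebraMap (Localization.Away h) (Localization.Away (algebraMap V (Localization.Away h) ϖ))
      (algebraMap V (Localization.Away h) ϖ) ^ N * algebraMap (Localization.Away h) (Localization.Away (algebraMap V (Localization.Away h) ϖ))
      (crd h 1) * hc

end Groth.Agent.SemistableNode
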