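import Mathlib

/-!
# Extending derivations to quotients and localizations, and a Wronskian lemma
-/

set_option autoImplicit false
set_option linter.style.haveILetI false
set_option linter.unusedSectionVars false

universe u

open TrivSqZeroExt

namespace Groth.Agent.SemistableNode

variable {V : Type u} [CommRing V] {S : Type u} [CommRing S] [Algebra V S]
  {T : Type u} [CommRing T] [Algebra V T] [Algebra S T] [IsScalarTower V S T]

/-- The ring map to dual numbers attached to a derivation. -/
def dualHom (δ : Derivation V S S) : S →+* TrivSqZeroExt T T where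
  toFun s := inl (algebraMap S T s) + inr (algebraMap S T (δ s))
  map_one' := by ext <;> simp
  map_zero' := by ext <;> simp
  map_add' a b := by
    ext <;> simp only [map_add, fst_add, snd_add, fst_inl, fst_inr, snd_inl, snd_inr, add_zero, zero_add]
  map_mul' a b := by
    ext
    · simp only [map_mul, fst_mul, fst_add, fst_inl, fst_inr, add_zero]
    · simp only [map_mul, map_add, Derivation.leibniz, smul_eq_mul, snd_mul, snd_add, fst_add, fst_inl, fst_inr,
        snd_inl, snd_inr, add_zero, zero_add, op_smul_eq_smul]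

theorem fst_dualHom (δ : Derivation V S S) (s : S) : (dualHom (T := T) δ s).fst = algebraMap S T s := by
  simp only [dualHom, RingHom.coe_mk, MonoidHom.coe_mk, OneHom.coe_mk, fst_add, fst_inl, fst_inr, add_zero]

theorem snd_dualHom (δ : Derivation V S S) (s : S) : (dualHom (T := T) δ s).snd = algebraMap S T (δ s) := by
  simp only [dualHom, RingHom.coe_mk, MonoidHom.coe_mk, OneHom.coe_mk, snd_add, snd_inl, snd_inr, zero_add]

/-- A ring map to dual numbers which is a section is a derivation. -/
def derOfHom (Θ : T →+* TrivSqZeroExt T T) (hfst : ∀ t, (Θ t).fst = t)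
    (hV : ∀ v : V, (Θ (algebraMap V T v)).snd = 0) : Derivation V T T :=
  Derivation.mk'
    { toFun := fun t => (Θ t).snd
      map_add' := fun a b => by simp
      map_smul' := fun v t => by simp [Algebra.smul_def, hfst, hV] }
    fun a b => by simp [hfst, mul_comm]

omit [IsScalarTower V S T] in
theorem derOfHom_apply (Θ : T →+* TrivSqZeroExt T T) (hfst : ∀ t, (Θ t).fst = t)
    (hV : ∀ v : V, (Θ (algebraMap V T v)).snd = 0) (t : T) : derOfHom Θ hfst hV t = (Θ t).snd := rfl

/-- Derivations extend to localizations. -/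
theorem exists_extend_localization (M : Submonoid S) [IsLocalization M T] (δ : Derivation V S S) :
    ∃ δ' : Derivation V T T, ∀ s, δ' (algebraMap S T s) = algebraMap S T (δ s) := by
  have hu : ∀ m : M, IsUnit (dualHom (T := T) δ m) := fun m =>
    isUnit_iff_isUnit_fst.mpr (by rw [fst_dualHom]; exact IsLocalization.map_units T m)
  let Θ : T →+* TrivSqZeroExt T T := IsLocalization.lift hu
  have hΘ : ∀ s, Θ (algebraMap S T s) = dualHom δ s := IsLocalization.lift_eq hu
  have hfst : ∀ t, (Θ t).fst = t := fun t => by
    have h : ((fstHom T T T).toRingHom.comp Θ) = RingHom.id T :=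
      IsLocalization.ringHom_ext M (RingHom.ext fun s => by simp [hΘ, fst_dualHom])
    exact congr($h t)
  refine ⟨derOfHom Θ hfst fun v => ?_, fun s => ?_⟩
  · rw [IsScalarTower.algebraMap_apply V S T, hΘ, snd_dualHom, Derivation.map_algebraMap, map_zero]
  · rw [derOfHom_apply, hΘ, snd_dualHom]

/-- Derivations preserving an ideal descend to the quotient. -/
theorem exists_descend (I : Ideal S) (δ : Derivation V S S) (hI : ∀ s ∈ I, δ s ∈ I) :
    ∃ δ' : Derivation V (S ⧸ I) (S ⧸ I), ∀ s, δ' (Ideal.Quotient.mk I s) = Ideal.Quotient.mk I (δ s) := by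
  let Θ : S ⧸ I →+* TrivSqZeroExt (S ⧸ I) (S ⧸ I) := Ideal.Quotient.lift I (dualHom δ) fun s hs => by
    ext
    · rw [fst_dualHom]; exact Ideal.Quotient.eq_zero_iff_mem.mpr hs
    · rw [snd_dualHom]; exact Ideal.Quotient.eq_zero_iff_mem.mpr (hI s hs)
  have hfst : ∀ t, (Θ t).fst = t := fun t => by
    obtain ⟨s, rfl⟩ := Ideal.Quotient.mk_surjective t
    simp [Θ, fst_dualHom]
  refine ⟨derOfHom Θ hfst fun v => ?_, fun s => ?_⟩
  · rw [IsScalarTower.algebraMap_apply V S (S ⧸ I), Ideal.Quotient.algebraMap_eq, Ideal.Quotient.lift_mk,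
      snd_dualHom, Derivation.map_algebraMap, map_zero]
  · rw [derOfHom_apply, Ideal.Quotient.lift_mk, snd_dualHom, Ideal.Quotient.algebraMap_eq]

open Polynomial in
/-- In characteristic zero a vanishing Wronskian means proportional polynomials. -/
theorem eq_C_mul_of_derivative {k : Type u} [Field k] [CharZero k] {P H : k[X]} (hH : H ≠ 0)
    (h : derivative P * H = P * derivative H) : ∃ c : k, P = Polynomial.C c * H := by
  obtain ⟨q, p, g, hrel, hq, hp⟩ := UniqueFactorizationMonoid.exists_reduced_factors H hH P
  subst hq hp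
  have hg : g ≠ 0 := left_ne_zero_of_mul hH
  have hq0 : q ≠ 0 := right_ne_zero_of_mul hH
  have h2 : derivative p * q = p * derivative q := by
    refine mul_left_cancel₀ (mul_ne_zero hg hg) ?_
    simp only [derivative_mul] at h
    linear_combination h
  have hdvd : q ∣ derivative q :=
    hrel.isCoprime.dvd_of_dvd_mul_left ⟨derivative p, by rw [← h2, mul_comm]⟩
  have hq' : derivative q = 0 := by
    by_contra h0
    exact absurd (natDegree_le_of_dvd hdvd h0)
      (not_le.mpr (natDegree_derivative_lt fun hd => h0 (derivative_eq_zero.mpr hd)))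
  have hqC := eq_C_of_derivative_eq_zero hq'
  rw [hq', mul_zero, mul_eq_zero, or_iff_left hq0] at h2
  have hpC := eq_C_of_derivative_eq_zero h2
  refine ⟨p.coeff 0 / q.coeff 0, ?_⟩
  have hq00 : q.coeff 0 ≠ 0 := fun h0 => hq0 (by rw [hqC, h0, map_zero])
  conv_lhs => rw [hpC]
  conv_rhs => rw [hqC]
  rw [coeff_C_zero, mul_left_comm, ← map_mul, div_mul_cancel₀ _ hq00]

end Groth.Agent.SemistableNode
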