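import Groth.Agent.SemistableNode.Der

/-!
# The standard semistable node over a discrete valuation ring
-/

set_option autoImplicit false
set_option linter.style.haveILetI false
set_option linter.unusedSectionVars false

universe u

open IsLocalRing

namespace Groth.Agent.SemistableNode

variable {V : Type u} [CommRing V] [IsDomain V] [IsDiscreteValuationRing V] (ϖ : V)

/-- The coordinate ring of the node. -/
abbrev Node : Type u :=
  MvPolynomial (Fin 2) V ⧸
    Ideal.span {(MvPolynomial.X 0 * MvPolynomial.X 1 - MvPolynomial.C ϖ : MvPolynomial (Fin 2) V)}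

/-- The coordinates. -/
noncomputable abbrev coord (i : Fin 2) : Node ϖ := Ideal.Quotient.mk _ (MvPolynomial.X i)

theorem coord_mul : coord ϖ 0 * coord ϖ 1 = algebraMap V (Node ϖ) ϖ := by
  rw [← map_mul, IsScalarTower.algebraMap_apply V (MvPolynomial (Fin 2) V) (Node ϖ),
    Ideal.Quotient.algebraMap_eq, Ideal.Quotient.eq, MvPolynomial.algebraMap_eq]
  exact Ideal.mem_span_singleton_self _

variable {ϖ} (hϖ : Irreducible ϖ)
include hϖ

theorem residue_pi : residue V ϖ = 0 := (residue_eq_zero_iff _).mpr hϖ.not_isUnit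

/-- The restriction to the component where the coordinate `j` survives. -/
noncomputable def comp (j : Fin 2) : Node ϖ →+* Polynomial (ResidueField V) :=
  Ideal.Quotient.lift _
    (MvPolynomial.eval₂Hom (Polynomial.C.comp (residue V)) fun l => if l = j then Polynomial.X else 0)
    fun a ha => by
      obtain ⟨b, rfl⟩ := Ideal.mem_span_singleton'.mp ha
      rw [map_mul, map_sub, map_mul, MvPolynomial.eval₂Hom_X', MvPolynomial.eval₂Hom_X',
        MvPolynomial.eval₂Hom_C, RingHom.comp_apply, residue_pi hϖ]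
      fin_cases j <;> simp

theorem comp_coord (j l : Fin 2) : comp hϖ j (coord ϖ l) = if l = j then Polynomial.X else 0 := by
  rw [comp, Ideal.Quotient.lift_mk, MvPolynomial.eval₂Hom_X']

theorem comp_algebraMap (j : Fin 2) (v : V) :
    comp hϖ j (algebraMap V (Node ϖ) v) = Polynomial.C (residue V v) := by
  rw [comp, IsScalarTower.algebraMap_apply V (MvPolynomial (Fin 2) V) (Node ϖ),
    Ideal.Quotient.algebraMap_eq, Ideal.Quotient.lift_mk, MvPolynomial.algebraMap_eq,
    MvPolynomial.eval₂Hom_C, RingHom.comp_apply]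

theorem coord_dvd_of_comp {i j : Fin 2} (hij : i ≠ j) {q : Node ϖ} (hq : comp hϖ j q = 0) :
    coord ϖ i ∣ q := by
  let I : Ideal (Node ϖ) := Ideal.span {coord ϖ i}
  have hI : algebraMap V (Node ϖ) ϖ ∈ I := by
    rw [← coord_mul]
    fin_cases i
    · exact Ideal.mem_span_singleton.mpr (dvd_mul_right _ _)
    · exact Ideal.mem_span_singleton.mpr (dvd_mul_left _ _)
  let k₀ : ResidueField V →+* Node ϖ ⧸ I :=
    Ideal.Quotient.lift (maximalIdeal V) ((Ideal.Quotient.mk I).comp (algebraMap V (Node ϖ))) fun a ha => by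
      rw [hϖ.maximalIdeal_eq] at ha
      obtain ⟨b, rfl⟩ := Ideal.mem_span_singleton'.mp ha
      rw [RingHom.comp_apply, map_mul, map_mul, Ideal.Quotient.eq_zero_iff_mem.mpr hI]
      exact MulZeroClass.mul_zero (Ideal.Quotient.mk I (algebraMap V (Node ϖ) b))
  let inv : Polynomial (ResidueField V) →+* Node ϖ ⧸ I :=
    Polynomial.eval₂RingHom k₀ (Ideal.Quotient.mk I (coord ϖ j))
  have h : (inv.comp (comp hϖ j)).comp (Ideal.Quotient.mk _) =
      (Ideal.Quotient.mk I).comp (Ideal.Quotient.mk _) := by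
    refine MvPolynomial.ringHom_ext (fun v => ?_) fun l => ?_
    · simp only [RingHom.comp_apply, comp, Ideal.Quotient.lift_mk, MvPolynomial.eval₂Hom_C, inv,
        Polynomial.coe_eval₂RingHom, Polynomial.eval₂_C]
      rfl
    · simp only [RingHom.comp_apply, comp, Ideal.Quotient.lift_mk, MvPolynomial.eval₂Hom_X', inv,
        Polynomial.coe_eval₂RingHom]
      split_ifs with hl
      · rw [Polynomial.eval₂_X, hl]
      · rw [Polynomial.eval₂_zero, eq_comm, Ideal.Quotient.eq_zero_iff_mem]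
        rw [show l = i by omega]
        exact Ideal.mem_span_singleton_self _
  obtain ⟨Q, rfl⟩ := Ideal.Quotient.mk_surjective q
  have h2 := congr($h Q)
  rw [RingHom.comp_apply, RingHom.comp_apply, RingHom.comp_apply, hq, map_zero] at h2
  exact Ideal.mem_span_singleton.mp (Ideal.Quotient.eq_zero_iff_mem.mp h2.symm)

theorem coeff_zero_comp_ne (j : Fin 2) {h : Node ϖ} (hh : h ∉ Ideal.span {coord ϖ 0, coord ϖ 1}) :
    (comp hϖ j h).coeff 0 ≠ 0 := by
  intro h0
  obtain ⟨r, hr⟩ := Polynomial.X_dvd_iff.mpr h0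
  obtain ⟨R, rfl⟩ := Polynomial.map_surjective (residue V) residue_surjective r
  let r' : Node ϖ := Polynomial.aeval (coord ϖ j) R
  have hr' : comp hϖ j r' = R.map (residue V) := by
    have : (comp hϖ j).comp (Polynomial.aeval (coord ϖ j) : Polynomial V →ₐ[V] Node ϖ).toRingHom =
        Polynomial.mapRingHom (residue V) := Polynomial.ringHom_ext
      (fun v => by simp [comp_algebraMap hϖ]) (by simp [comp_coord hϖ])
    exact congr($this R)
  obtain ⟨i, hij⟩ : ∃ i : Fin 2, i ≠ j := exists_ne j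
  have hd := coord_dvd_of_comp hϖ hij (q := h - coord ϖ j * r')
    (by rw [map_sub, map_mul, comp_coord, if_pos rfl, hr', hr, sub_self])
  have hmem : ∀ l : Fin 2, coord ϖ l ∈ Ideal.span {coord ϖ 0, coord ϖ 1} := fun l => by
    fin_cases l <;> exact Ideal.subset_span (by simp)
  refine hh ?_
  rw [← sub_add_cancel h (coord ϖ j * r')]
  exact add_mem (Ideal.mem_of_dvd _ hd (hmem i)) (Ideal.mul_mem_right _ _ (hmem j))

theorem pi_regular {q : Node ϖ} (hq : algebraMap V (Node ϖ) ϖ * q = 0) : q = 0 := by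
  obtain ⟨Q, rfl⟩ := Ideal.Quotient.mk_surjective q
  rw [IsScalarTower.algebraMap_apply V (MvPolynomial (Fin 2) V) (Node ϖ), Ideal.Quotient.algebraMap_eq,
    ← map_mul, Ideal.Quotient.eq_zero_iff_mem, MvPolynomial.algebraMap_eq] at hq
  obtain ⟨G, hG⟩ := Ideal.mem_span_singleton'.mp hq
  have hp : Prime (MvPolynomial.C ϖ : MvPolynomial (Fin 2) V) := (MvPolynomial.prime_C_iff (Fin 2)).mpr hϖ.prime
  have hX : ∀ l : Fin 2, ¬(MvPolynomial.C ϖ : MvPolynomial (Fin 2) V) ∣ MvPolynomial.X l := fun l hd => by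
    have := (MvPolynomial.C_dvd_iff_dvd_coeff _ _).mp hd (Finsupp.single l 1)
    rw [MvPolynomial.coeff_X, if_pos rfl] at this
    exact hϖ.not_isUnit (isUnit_of_dvd_one this)
  have hd : MvPolynomial.C ϖ ∣ G * (MvPolynomial.X 0 * MvPolynomial.X 1) :=
    ⟨Q + G, by linear_combination hG⟩
  rcases hp.dvd_or_dvd hd with hd | hd
  · obtain ⟨G', rfl⟩ := hd
    refine Ideal.Quotient.eq_zero_iff_mem.mpr (Ideal.mem_span_singleton'.mpr ⟨G', ?_⟩)
    refine mul_left_cancel₀ hp.ne_zero ?_
    rw [← hG]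
    ring
  · rcases hp.dvd_or_dvd hd with hd | hd
    · exact absurd hd (hX 0)
    · exact absurd hd (hX 1)

omit hϖ in
/-- The Euler derivation `x ∂/∂x - y ∂/∂y`. -/
theorem exists_euler :
    ∃ δ : Derivation V (Node ϖ) (Node ϖ), δ (coord ϖ 0) = coord ϖ 0 ∧ δ (coord ϖ 1) = -coord ϖ 1 := by
  obtain ⟨δ, hδ⟩ := exists_descend (Ideal.span {(MvPolynomial.X 0 * MvPolynomial.X 1 - MvPolynomial.C ϖ : MvPolynomial (Fin 2) V)})
    (MvPolynomial.mkDerivation V ![MvPolynomial.X 0, -MvPolynomial.X 1]) fun s hs => by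
      obtain ⟨b, rfl⟩ := Ideal.mem_span_singleton'.mp hs
      refine Ideal.mem_span_singleton.mpr ?_
      simp only [Derivation.leibniz, map_sub, MvPolynomial.mkDerivation_X, smul_eq_mul,
        MvPolynomial.derivation_C, sub_zero]
      simp only [Matrix.cons_val_zero, Matrix.cons_val_one]
      refine dvd_add (dvd_mul_of_dvd_right ?_ _) (dvd_mul_right _ _)
      exact ⟨0, by ring⟩
  refine ⟨δ, ?_, ?_⟩ <;> simp [hδ, MvPolynomial.mkDerivation_X]

theorem comp_euler (δ : Derivation V (Node ϖ) (Node ϖ)) (h₀ : δ (coord ϖ 0) = coord ϖ 0)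
    (h₁ : δ (coord ϖ 1) = -coord ϖ 1) (j : Fin 2) (q : Node ϖ) :
    comp hϖ j (δ q) = Polynomial.C (if j = 0 then 1 else -1) * Polynomial.X * Polynomial.derivative (comp hϖ j q) := by
  obtain ⟨Q, rfl⟩ := Ideal.Quotient.mk_surjective q
  induction Q using MvPolynomial.induction_on with
  | C a =>
    have ha : Ideal.Quotient.mk _ (MvPolynomial.C a) = algebraMap V (Node ϖ) a := by
      rw [IsScalarTower.algebraMap_apply V (MvPolynomial (Fin 2) V) (Node ϖ)]
      rfl
    rw [ha, Derivation.map_algebraMap, map_zero, comp_algebraMap, Polynomial.derivative_C, mul_zero]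
  | add p q hp hq => simp only [map_add, hp, hq]; ring
  | mul_X p l hp =>
    rw [map_mul, Derivation.leibniz, smul_eq_mul, smul_eq_mul, map_add, map_mul, map_mul, hp, map_mul,
      Polynomial.derivative_mul, comp_coord]
    fin_cases l <;> fin_cases j <;> simp [h₀, h₁, comp_coord] <;> ring

end Groth.Agent.SemistableNode
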